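import Groth.Agent.Lib.Jac26.Family
import Groth.Agent.Lib.CurveMult.IdealDiv
import Groth.Agent.Lib.FunFld.Riemann
import Groth.Agent.Lib.CurveRR.Special

/-!
# Degree zero classes are differences of points
-/

set_option autoImplicit false
set_option linter.all false
set_option backward.isDefEq.respectTransparency false
set_option maxHeartbeats 1600000
set_option synthInstance.maxHeartbeats 200000

universe u

open CategoryTheory CategoryTheory.Limits AlgebraicGeometry Opposite TopologicalSpace IsLocalRing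
open GrothLib.Cube GrothLib.RigDesc26 GrothLib.PicZeroPts26
open GrothLib.CurveRR (oD place RegCurve CP)
open _root_.FunFld (Place Divisor)

noncomputable section

namespace GrothLib.Jac26

variable {C S : Scheme.{u}} (f : C ⟶ S) [IsProper f] [Smooth f] [GeometricallyConnected f]
  (hdim : ∀ s : S, topologicalKrullDim ↥(f.fiber s) = 1)

/-- Over an algebraically closed field every class of degree zero is a value of a large enough family. -/
theorem real_of_deg_eq_zero {Ω : Type u} [Field Ω] [IsAlgClosed Ω] (b : Spec (CommRingCat.of Ω) ⟶ S)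
    (n : Pic (PicF.XT f (Over.mk b))) (hn : deg f (Over.mk b) n (closedPoint Ω) = 0) (N : ℕ)
    (hN : 1 - EulerConst10.fibEuler (PicF.XTproj f (Over.mk b))
      (Coh.structureModule (PicF.XT f (Over.mk b))) (closedPoint Ω) ≤ N) :
    Real f hdim N (Over.mk b) n := by
  classical
  obtain ⟨hp, hs, hg, hint, hd⟩ := field_props f hdim b
  let X := PicF.XT f (Over.mk b)
  let p : X ⟶ Spec (CommRingCat.of Ω) := PicF.XTproj f (Over.mk b)
  letI : X.Over (Spec (CommRingCat.of Ω)) := ⟨p⟩
  haveI : IsProper (X ↘ Spec (CommRingCat.of Ω)) := hp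
  haveI : Smooth (X ↘ Spec (CommRingCat.of Ω)) := hs
  haveI : GeometricallyConnected (X ↘ Spec (CommRingCat.of Ω)) := hg
  haveI : IsIntegral X := hint
  haveI : RegCurve X := CurveRR.regCurve_of_smooth (X ↘ Spec (CommRingCat.of Ω)) hd
  haveI := Euler.isNoetherian_of_proper (X := X) Ω
  haveI : (Coh.structureModule X).IsQuasicoherent := InvExt.isQuasicoherent_of_isInvertible Euler.isInvertible_structure
  obtain ⟨M, hM, rfl⟩ := exists_module n
  haveI : M.IsQuasicoherent := InvExt.isQuasicoherent_of_isInvertible hM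
  rw [deg_clsMod] at hn
  change EulerConst10.fibEuler p M _ - EulerConst10.fibEuler p _ _ = 0 at hn
  rw [FGAInt26.fibEuler_point p M, FGAInt26.fibEuler_point p (Coh.structureModule _)] at hn
  rw [FGAInt26.fibEuler_point p (Coh.structureModule _)] at hN
  obtain ⟨D, ⟨e⟩⟩ := CurveRR.exists_iso_oD Ω hM
  rw [Euler.euler_of_iso Ω e, CurveRR.euler_oD] at hn
  have hc : ∀ E : Divisor Ω X.functionField, HasCls (oD Ω E) (clsMod (CurveRR.isInvertible_oD Ω E)) :=
    fun E => hasCls_clsMod _
  let g : Divisor Ω X.functionField →+ Additive (Pic X) := AddMonoidHom.mk'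
    (fun E => Additive.ofMul (clsMod (CurveRR.isInvertible_oD Ω E))) fun E F => by
      rw [← ofMul_mul]
      exact congrArg Additive.ofMul ((hc (E + F)).eq ((hc E).tensor (hc F)) ⟨(CurveRR.tensorIso Ω E F).symm⟩)
  let G : Divisor Ω X.functionField → Pic X := fun E => Additive.toMul (g E)
  have hGadd : ∀ E F, G (E + F) = G E * G F := fun E F => by simp only [G, map_add, toMul_add]
  have hGneg : ∀ E, G (-E) = (G E)⁻¹ := fun E => by simp only [G, map_neg, toMul_neg]
  have hG0 : G 0 = 1 := by simp only [G, map_zero, toMul_zero]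
  have hpt : ∀ c : CP X, ∃ a : Over.mk b ⟶ Over.mk f,
      ptI f hdim a = (G (Finsupp.single (place Ω c) 1))⁻¹ := fun c => by
    have hcl : IsClosed ({c.1} : Set X) := CurvePoints.isClosed_singleton RegCurve.dim.le c.2
    haveI : LocallyOfFiniteType (X ↘ Spec (CommRingCat.of Ω)) := inferInstance
    let x := pointOfClosedPoint (X ↘ Spec (CommRingCat.of Ω)) c.1 hcl
    have hxp : x ≫ PicF.XTproj f (Over.mk b) = 𝟙 _ := pointOfClosedPoint_comp _ _ _
    let a : Over.mk b ⟶ Over.mk f := Over.homMk (x ≫ pullback.fst f b) (by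
      show (x ≫ pullback.fst f b) ≫ f = b
      rw [Category.assoc, pullback.condition, ← Category.assoc]
      exact (congrArg (· ≫ b) hxp).trans (Category.id_comp b))
    refine ⟨a, ?_⟩
    have hsec : sec f a = x := by
      refine pullback.hom_ext ?_ ?_
      · exact (sec_fst f a).trans rfl
      · exact (sec_proj f a).trans hxp.symm
    have hk : x.ker = Scheme.IdealSheafData.vanishingIdeal ⟨{c.1}, hcl⟩ := by
      rw [SchImage.ker_eq_vanishingIdeal x]
      congr 1
      refine Closeds.ext ?_
      show closure (Set.range x) = {c.1}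
      rw [show Set.range x = {c.1} from Set.eq_singleton_iff_unique_mem.2
        ⟨⟨closedPoint Ω, pointOfClosedPoint_apply _ _ _ _⟩, fun z ⟨w, hw⟩ => hw ▸ pointOfClosedPoint_apply _ _ _ w⟩,
        hcl.closure_eq]
    obtain ⟨i⟩ := CurveRR.nonempty_idealMod_point_iso Ω c hcl
    have h1 : HasCls (ClSub.idealMod (sec f a).ker) (G (-Finsupp.single (place Ω c) 1)) := by
      rw [hsec, hk]
      exact ⟨ParaPair.isInvertible_of_iso i (CurveRR.isInvertible_oD Ω _),
        (Cube.clsMod_eq_iff _ (CurveRR.isInvertible_oD Ω _)).2 ⟨i⟩⟩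
    rw [← hGneg]
    exact (hasCls_ptI f hdim a).eq h1 ⟨Iso.refl _⟩
  have hfg := CurveRR.isFG (X := X) Ω
  obtain ⟨c₀⟩ : Nonempty (CP X) := by
    obtain ⟨P, -⟩ := CurveRR.FF.exists_place_notMem (k := Ω) hfg ∅
    obtain ⟨c, -⟩ := CurveRR.place_surjective (k := Ω) P
    exact ⟨c⟩
  obtain ⟨a₀, ha₀⟩ := hpt c₀
  set P₀ := place Ω c₀
  have hall : ∀ (m : ℕ) (E : Divisor Ω X.functionField), 0 ≤ E → E.deg = m →
      Real f hdim m (Over.mk b) (G (E - (m : ℤ) • Finsupp.single P₀ 1)) := by
    intro m
    induction m with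
    | zero =>
      intro E hE hd
      have : E = 0 := by
        by_contra hne
        obtain ⟨Q, hQ⟩ := Finsupp.ne_iff.1 hne
        have hle : Finsupp.single Q 1 ≤ E := fun R => by
          have := hE R
          by_cases hR : Q = R
          · subst hR; simp at this hQ ⊢; omega
          · simp [hR] at this ⊢; exact this
        have := FunFld.deg_mono hle
        rw [FunFld.deg_single, CurveMult.deg_place_eq_one] at this
        omega
      subst this
      rw [Nat.cast_zero, zero_smul, sub_zero, hG0]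
      exact real_zero f hdim _
    | succ m ih =>
      intro E hE hd
      have hne : E ≠ 0 := fun h => by rw [h, FunFld.deg_zero] at hd; omega
      obtain ⟨Q, hQ⟩ := Finsupp.ne_iff.1 hne
      have hle : Finsupp.single Q 1 ≤ E := fun R => by
        have := hE R
        by_cases hR : Q = R
        · subst hR; simp at this hQ ⊢; omega
        · simp [hR] at this ⊢; exact this
      obtain ⟨c, rfl⟩ := CurveRR.place_surjective (k := Ω) Q
      obtain ⟨a, ha⟩ := hpt c
      have h' := ih (E - Finsupp.single (place Ω c) 1) (sub_nonneg.2 hle) (by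
        rw [sub_eq_add_neg, FunFld.deg_add, FunFld.deg_neg, FunFld.deg_single, CurveMult.deg_place_eq_one]
        omega)
      have h'' := h'.succ f hdim a a₀
      rw [ha, ha₀, inv_inv, ← hGneg, ← hGadd, ← hGadd] at h''
      have e' : E - ((m + 1 : ℕ) : ℤ) • Finsupp.single P₀ 1 =
          E - Finsupp.single (place Ω c) 1 - (m : ℤ) • Finsupp.single P₀ 1 +
            (Finsupp.single (place Ω c) 1 + -Finsupp.single P₀ 1) := by
        push_cast
        rw [add_smul, one_smul]
        abel
      rw [e']
      exact h''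
  let D' := D + (N : ℤ) • Finsupp.single P₀ 1
  have hD' : D'.deg = N := by
    rw [FunFld.deg_add, Finsupp.smul_single, FunFld.deg_single, CurveMult.deg_place_eq_one]
    simp
    have := hn
    linarith
  have hell : 0 < FunFld.ell D' := by
    haveI : (oD Ω D').IsQuasicoherent := InvExt.isQuasicoherent_of_isInvertible (CurveRR.isInvertible_oD Ω D')
    have h1 := Euler.euler_eq_sub Ω hd.le (oD Ω D')
    rw [CurveRR.euler_oD, hD', CurveRR.finrank_H0_oD] at h1
    have h2 : (0 : ℤ) ≤ Module.finrank Ω (Coh.HH X (oD Ω D') 1) := Int.natCast_nonneg _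
    have h3 : (0 : ℤ) < FunFld.ell D' := by linarith
    exact_mod_cast h3
  obtain ⟨x, hx0, -, hx⟩ := hfg.exists_of_ell_pos hell
  have hE : (D' + _root_.FunFld.div Ω x).deg = N := by
    rw [FunFld.deg_add, hfg.deg_div, hD', add_zero]
  have h := hall N _ hx hE
  obtain ⟨i⟩ := CurveMult.DivIso.nonempty_iso_of_sub_mem Ω (D := D' + _root_.FunFld.div Ω x) (E := D')
    ((FunFld.mem_prinDivs_iff hfg _).2 ⟨x, hx0, by abel⟩)
  have hGD : clsMod hM = G D := (hasCls_clsMod hM).eq (hc D) ⟨e⟩
  have hGi : G (D' + _root_.FunFld.div Ω x) = G D' := (hc _).eq (hc _) ⟨i⟩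
  rw [sub_eq_add_neg, hGadd, hGi, ← hGadd, ← sub_eq_add_neg] at h
  rw [hGD]
  have hD0 : D' - (N : ℤ) • Finsupp.single P₀ 1 = D := by simp [D']
  rwa [hD0] at h

end GrothLib.Jac26
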