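import Groth.Agent.Lib.PicZeroPts26.Basic
import Groth.Agent.Lib.AlgEquiv26.Curve
import Groth.Agent.S12409
import Groth.Agent.S12412

/-!
# Degree zero classes and classes algebraically equivalent to zero
-/

set_option autoImplicit false
set_option linter.all false
set_option backward.isDefEq.respectTransparency false
set_option maxHeartbeats 1000000
set_option synthInstance.maxHeartbeats 200000

universe u

open CategoryTheory CategoryTheory.Limits AlgebraicGeometry Opposite TopologicalSpace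
open GrothLib.Cube GrothLib.RigDesc26 GrothLib.PicZeroPts26

noncomputable section

namespace GrothLib.Jac26

theorem AEZ.mul {Ω : Type u} [Field Ω] {Y : Scheme.{u}} {p : Y ⟶ Spec (CommRingCat.of Ω)} {y y' : Pic Y}
    (h : AEZ p y) (h' : AEZ p y') : AEZ p (y * y') := by
  letI : Y.Over (Spec (CommRingCat.of Ω)) := ⟨p⟩
  obtain ⟨L, hL, h⟩ := h
  obtain ⟨L', hL', h'⟩ := h'
  obtain ⟨M, hM, hMc⟩ := exists_module (y * y')
  exact ⟨M, ⟨hM, hMc⟩, (AlgEquiv26.algCls_iff Ω ⟨hM, hMc⟩).1
    (((AlgEquiv26.algCls_iff Ω hL).2 h).mul Ω ((AlgEquiv26.algCls_iff Ω hL').2 h'))⟩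

variable {C S : Scheme.{u}} (f : C ⟶ S)

/-- Classes algebraically equivalent to zero, tested on field valued points. -/
theorem Z_iff (T : Over S) (n : Pic (PicF.XT f T)) :
    Z f T n ↔ ∀ (Ω : Type u) [Field Ω] [IsAlgClosed Ω] (s : Spec (CommRingCat.of Ω) ⟶ T.left),
      AEZ (PicF.XTproj f (AbDual.ovr T s)) (pull (PicF.XTmap f (AbDual.ovrHom T s)) n) := by
  refine forall_congr' fun Ω => forall_congr' fun _ => forall_congr' fun _ => forall_congr' fun s => ?_
  have hsq : IsPullback (PicF.XTmap f (AbDual.ovrHom T s)) (PicF.XTproj f (AbDual.ovr T s)) (PicF.XTproj f T) s :=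
    RigDesc26.isPullback_XTmap f (AbDual.ovrHom T s)
  constructor
  · intro h
    have h' := h.pull hsq.isoPullback.hom hsq.isoPullback_hom_snd
    rwa [pull_comp, IsPullback.isoPullback_hom_fst] at h'
  · intro h
    have h' := h.pull hsq.isoPullback.inv hsq.isoPullback_inv_snd
    rwa [pull_comp, IsPullback.isoPullback_inv_fst] at h'

theorem Z_mul (T : Over S) {n n' : Pic (PicF.XT f T)} (h : Z f T n) (h' : Z f T n') : Z f T (n * n') := by
  rw [Z_iff] at h h' ⊢
  intro Ω _ _ s
  rw [map_mul]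
  exact AEZ.mul (h Ω s) (h' Ω s)

/-- The degree of a class at a point. -/
def deg (T : Over S) (n : Pic (PicF.XT f T)) (t : T.left) : ℤ :=
  Groth.Agent.S12409.degAt f T (exists_module n).choose t

theorem deg_clsMod (T : Over S) {M : (PicF.XT f T).Modules} (hM : PicF.IsInvertible M) (t : T.left) :
    deg f T (clsMod hM) t = Groth.Agent.S12409.degAt f T M t := by
  obtain ⟨h1, h2⟩ := (exists_module (clsMod hM)).choose_spec
  exact Groth.Agent.S12409.degAt_congr f T (PicSep26.cl_eq_iff.2 ((clsMod_eq_iff h1 hM).1 h2)) t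

theorem deg_pull [IsProper f] {T T' : Over S} (g : T' ⟶ T) (n : Pic (PicF.XT f T)) (t' : T'.left) :
    deg f T' (pull (PicF.XTmap f g) n) t' = deg f T n (g.left t') := by
  obtain ⟨M, hM, rfl⟩ := exists_module n
  rw [← clsMod_pullback _ hM, deg_clsMod, deg_clsMod]
  exact Groth.Agent.S12409.degAt_pullback f g M hM t'

variable [IsProper f] [Smooth f] [GeometricallyConnected f]
  (hdim : ∀ s : S, topologicalKrullDim ↥(f.fiber s) = 1)

/-- The geometric fibres of a curve. -/
theorem field_props (hdim : ∀ s : S, topologicalKrullDim ↥(f.fiber s) = 1) {Ω : Type u} [Field Ω] (b : Spec (CommRingCat.of Ω) ⟶ S) :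
    IsProper (PicF.XTproj f (Over.mk b)) ∧ Smooth (PicF.XTproj f (Over.mk b)) ∧
      GeometricallyConnected (PicF.XTproj f (Over.mk b)) ∧ IsIntegral (PicF.XT f (Over.mk b)) ∧
      topologicalKrullDim ↥(PicF.XT f (Over.mk b)) = 1 := by
  haveI h1 : IsProper (PicF.XTproj f (Over.mk b)) := inferInstanceAs (IsProper (pullback.snd f b))
  haveI h2 : Smooth (PicF.XTproj f (Over.mk b)) := inferInstanceAs (Smooth (pullback.snd f b))
  haveI h3 : GeometricallyConnected (PicF.XTproj f (Over.mk b)) :=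
    inferInstanceAs (GeometricallyConnected (pullback.snd f b))
  haveI : ConnectedSpace ↥(PicF.XT f (Over.mk b)) :=
    GeometricallyConnected.connectedSpace_of_subsingleton (X := PicF.XT f (Over.mk b)) (pullback.snd f b)
  refine ⟨h1, h2, h3, Euler.isIntegral_of_smooth_connected Ω (X := PicF.XT f (Over.mk b)) (pullback.snd f b), ?_⟩
  let p : PicF.XT f (Over.mk b) ⟶ Spec (CommRingCat.of Ω) := pullback.snd f b
  let pt : Spec (CommRingCat.of Ω) := IsLocalRing.closedPoint Ω
  haveI : Subsingleton ↥(Spec (CommRingCat.of Ω)) := inferInstanceAs (Subsingleton (PrimeSpectrum Ω))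
  have hr : Set.range (p.fiberι pt) = Set.univ := by
    rw [Scheme.Hom.range_fiberι]; exact Set.eq_univ_of_forall fun a => Subsingleton.elim _ _
  rw [← IsHomeomorph.topologicalKrullDim_eq _ (((p.fiberι pt).isEmbedding.toHomeomorph).trans
      ((Homeomorph.setCongr hr).trans (Homeomorph.Set.univ _))).isHomeomorph]
  exact (FibreBC.topologicalKrullDim_fiber (IsPullback.of_hasPullback f b) pt).trans (hdim _)

include hdim in
theorem deg_eq_zero_of_Z (T : Over S) {n : Pic (PicF.XT f T)} (h : Z f T n) (t : T.left) : deg f T n t = 0 := by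
  obtain ⟨M, hM, rfl⟩ := exists_module n
  obtain ⟨L, hL, hLi, hLa⟩ := (Z_clsMod f T hM).1 h
  rw [deg_clsMod, ← Groth.Agent.S12409.degAt_congr f T hL t, ← Groth.Agent.S12409.degAt_eq f hdim T L t,
    Groth.Agent.S12412.result f hdim T L hLi t (hLa t), sub_self]

include hdim in
theorem AEZ_of_deg_eq_zero {Ω : Type u} [Field Ω] [IsAlgClosed Ω] (b : Spec (CommRingCat.of Ω) ⟶ S)
    {n : Pic (PicF.XT f (Over.mk b))} (hn : deg f (Over.mk b) n (IsLocalRing.closedPoint Ω) = 0) :
    AEZ (PicF.XTproj f (Over.mk b)) n := by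
  obtain ⟨hp, hs, hg, hint, hd⟩ := field_props f hdim b
  let p : PicF.XT f (Over.mk b) ⟶ Spec (CommRingCat.of Ω) := PicF.XTproj f (Over.mk b)
  letI : (PicF.XT f (Over.mk b)).Over (Spec (CommRingCat.of Ω)) := ⟨p⟩
  haveI : IsProper (PicF.XT f (Over.mk b) ↘ Spec (CommRingCat.of Ω)) := hp
  haveI : Smooth (PicF.XT f (Over.mk b) ↘ Spec (CommRingCat.of Ω)) := hs
  haveI : GeometricallyConnected (PicF.XT f (Over.mk b) ↘ Spec (CommRingCat.of Ω)) := hg
  haveI : CurveRR.RegCurve (PicF.XT f (Over.mk b)) :=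
    CurveRR.regCurve_of_smooth (PicF.XT f (Over.mk b) ↘ Spec (CommRingCat.of Ω)) hd
  obtain ⟨M, hM, rfl⟩ := exists_module n
  haveI : M.IsQuasicoherent := InvExt.isQuasicoherent_of_isInvertible hM
  haveI : (Coh.structureModule (PicF.XT f (Over.mk b))).IsQuasicoherent :=
    InvExt.isQuasicoherent_of_isInvertible Euler.isInvertible_structure
  rw [deg_clsMod] at hn
  change EulerConst10.fibEuler p M _ - EulerConst10.fibEuler p _ _ = 0 at hn
  rw [FGAInt26.fibEuler_point p M, FGAInt26.fibEuler_point p (Coh.structureModule _)] at hn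
  refine ⟨M, hasCls_clsMod hM, (AlgEquiv26.algCls_iff Ω (hasCls_clsMod hM)).1
    (AlgEquiv26.algCls_of_deg_eq_zero Ω hM ?_)⟩
  rw [Curv2.deg]
  push_cast
  linarith [hn]

include hdim in
theorem Z_iff_deg (T : Over S) (n : Pic (PicF.XT f T)) : Z f T n ↔ ∀ t, deg f T n t = 0 := by
  refine ⟨fun h t => deg_eq_zero_of_Z f hdim T h t, fun h => (Z_iff f T n).2 fun Ω _ _ s => ?_⟩
  refine AEZ_of_deg_eq_zero f hdim (s ≫ T.hom) ?_
  show deg f (AbDual.ovr T s) _ _ = 0
  rw [deg_pull]
  exact h _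

end GrothLib.Jac26
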