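import Groth.Agent.Lib.Jac26.Deg

/-!
# The family of differences of points
-/

set_option autoImplicit false
set_option linter.all false
set_option backward.isDefEq.respectTransparency false
set_option maxHeartbeats 1000000
set_option synthInstance.maxHeartbeats 200000

universe u

open CategoryTheory CategoryTheory.Limits AlgebraicGeometry Opposite TopologicalSpace
open GrothLib.Cube GrothLib.RigDesc26 GrothLib.PicZeroPts26

noncomputable section

namespace GrothLib.Jac26

variable {C S : Scheme.{u}} (f : C ⟶ S) [IsProper f] [Smooth f] [GeometricallyConnected f]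
  (hdim : ∀ s : S, topologicalKrullDim ↥(f.fiber s) = 1)

include hdim in
theorem hdim_XT (T : Over S) (t : T.left) : topologicalKrullDim ↥((PicF.XTproj f T).fiber t) = 1 :=
  (FibreBC.topologicalKrullDim_fiber (IsPullback.of_hasPullback f T.hom) t).trans (hdim _)

include hdim in
theorem isInvertible_idealMod (T : Over S) (x : T.left ⟶ PicF.XT f T) (hx : x ≫ PicF.XTproj f T = 𝟙 _) :
    PicF.IsInvertible (ClSub.idealMod x.ker) := by
  haveI : IsProper (PicF.XTproj f T) := inferInstanceAs (IsProper (pullback.snd f T.hom))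
  haveI : Smooth (PicF.XTproj f T) := inferInstanceAs (Smooth (pullback.snd f T.hom))
  haveI : GeometricallyConnected (PicF.XTproj f T) :=
    inferInstanceAs (GeometricallyConnected (pullback.snd f T.hom))
  exact IdealModSec.isInvertible_of_isEffCartier
    (SmCurveFam.isEffCartier_section (PicF.XTproj f T) (hdim_XT f hdim T) x hx)

/-- The ideal of the diagonal. -/
def diagI : Pic (PicF.XT f (Over.mk f)) :=
  clsMod (isInvertible_idealMod f hdim (Over.mk f) (pullback.diagonal f) (pullback.diagonal_snd f))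

/-- The section given by a point of the curve. -/
def sec {T : Over S} (g : T ⟶ Over.mk f) : T.left ⟶ PicF.XT f T :=
  pullback.lift g.left (𝟙 _) ((Over.w g).trans (Category.id_comp _).symm)

theorem sec_proj {T : Over S} (g : T ⟶ Over.mk f) : sec f g ≫ PicF.XTproj f T = 𝟙 _ := pullback.lift_snd _ _ _

theorem sec_fst {T : Over S} (g : T ⟶ Over.mk f) : sec f g ≫ pullback.fst f T.hom = g.left :=
  pullback.lift_fst _ _ _

/-- The ideal of a point of the curve. -/
def ptI {T : Over S} (g : T ⟶ Over.mk f) : Pic (PicF.XT f T) := pull (PicF.XTmap f g) (diagI f hdim)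

theorem hasCls_ptI {T : Over S} (g : T ⟶ Over.mk f) :
    HasCls (ClSub.idealMod (sec f g).ker) (ptI f hdim g) := by
  have hJ := isInvertible_idealMod f hdim T (sec f g) (sec_proj f g)
  have hI := isInvertible_idealMod f hdim (Over.mk f) (pullback.diagonal f) (pullback.diagonal_snd f)
  haveI : IsProper (PicF.XTproj f T) := inferInstanceAs (IsProper (pullback.snd f T.hom))
  haveI : IsClosedImmersion (sec f g) := by
    haveI : IsClosedImmersion (sec f g ≫ PicF.XTproj f T) := by rw [sec_proj]; infer_instance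
    exact IsClosedImmersion.of_comp (sec f g) (PicF.XTproj f T)
  haveI : IsClosedImmersion (pullback.diagonal f) := inferInstance
  have m1 : PicF.XTmap f g ≫ pullback.fst f f = pullback.fst f T.hom :=
    (pullback.lift_fst _ _ _).trans (Category.comp_id _)
  have m2 : PicF.XTmap f g ≫ pullback.snd f f = PicF.XTproj f T ≫ g.left := pullback.lift_snd _ _ _
  have hxm : sec f g ≫ PicF.XTmap f g = g.left ≫ pullback.diagonal f := by
    refine pullback.hom_ext ?_ ?_
    · rw [Category.assoc, Category.assoc]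
      erw [pullback.diagonal_fst, m1]
      rw [sec_fst]
      exact (Category.comp_id g.left).symm
    · rw [Category.assoc, Category.assoc]
      erw [pullback.diagonal_snd, m2]
      rw [← Category.assoc, sec_proj]
      exact (Category.id_comp g.left).trans (Category.comp_id g.left).symm
  have hsq : IsPullback (PicF.XTmap f g) (PicF.XTproj f T) (pullback.snd f f) g.left :=
    RigDesc26.isPullback_XTmap f g
  have hQ : IsPullback g.left (sec f g) (pullback.diagonal f) (PicF.XTmap f g) := by
    refine IsPullback.of_bot ?_ hxm.symm hsq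
    rw [sec_proj, pullback.diagonal_snd]
    exact IsPullback.of_vert_isIso ⟨by simp⟩
  have hker : (sec f g).ker = (pullback.diagonal f).ker.comap (PicF.XTmap f g) := by
    rw [← hQ.flip.isoPullback_hom_fst, Scheme.Hom.ker_comp_of_isIso,
      Scheme.IdealSheafData.ker_fst_of_isClosedImmersion]
  obtain ⟨e⟩ := HodgeIndex.nonempty_pullback_idealMod (pullback.diagonal f) (sec f g) g.left _ hxm hker hI hJ
  have h := (hasCls_clsMod hI).pullback (PicF.XTmap f g)
  exact ⟨hJ, ((clsMod_eq_iff hJ h.1).2 ⟨e.symm⟩).trans h.2⟩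

theorem ptI_pull {T T' : Over S} (a : T' ⟶ T) (g : T ⟶ Over.mk f) :
    pull (PicF.XTmap f a) (ptI f hdim g) = ptI f hdim (a ≫ g) := by
  rw [ptI, ptI, pull_comp, RigDesc26.XTmap_comp]

/-- The difference of two points is algebraically equivalent to zero. -/
theorem Z_div (T : Over S) (g g' : T ⟶ Over.mk f) : Z f T ((ptI f hdim g)⁻¹ * ptI f hdim g') := by
  rw [Z_iff]
  intro Ω _ _ s
  rw [map_mul, map_inv, ptI_pull, ptI_pull]
  generalize hgs : AbDual.ovrHom T s ≫ g = a
  generalize hgs' : AbDual.ovrHom T s ≫ g' = a'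
  obtain ⟨hp, hs, hg, hint, hd⟩ := field_props f hdim (s ≫ T.hom)
  let X := PicF.XT f (AbDual.ovr T s)
  letI : X.Over (Spec (CommRingCat.of Ω)) := ⟨PicF.XTproj f (AbDual.ovr T s)⟩
  haveI : IsProper (X ↘ Spec (CommRingCat.of Ω)) := hp
  haveI : Smooth (X ↘ Spec (CommRingCat.of Ω)) := hs
  haveI : GeometricallyConnected (X ↘ Spec (CommRingCat.of Ω)) := hg
  haveI : IsIntegral X := hint
  obtain ⟨L, hL, hc⟩ := exists_module ((ptI f hdim a)⁻¹ * ptI f hdim a')
  refine ⟨L, ⟨hL, hc⟩, (AlgEquiv26.algCls_iff Ω ⟨hL, hc⟩).1 ?_⟩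
  rw [mul_comm]
  exact AlgEquiv26.algCls_point_div Ω hd (sec f a') (sec f a) (sec_proj f a') (sec_proj f a)
    (hasCls_ptI f hdim a') (hasCls_ptI f hdim a)

/-- Pairs of points of the curve. -/
def C2 : Over S := Over.mk (pullback.fst f f ≫ f)

def prX : C2 f ⟶ Over.mk f := Over.homMk (pullback.fst f f) rfl

def prY : C2 f ⟶ Over.mk f := Over.homMk (pullback.snd f f) pullback.condition.symm

/-- The new factor. -/
def stepT (T : Over S) : Over S := Over.mk (pullback.fst T.hom (C2 f).hom ≫ T.hom)

def step₁ (T : Over S) : stepT f T ⟶ T := Over.homMk (pullback.fst T.hom (C2 f).hom) rfl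

def step₂ (T : Over S) : stepT f T ⟶ C2 f :=
  Over.homMk (pullback.snd T.hom (C2 f).hom) pullback.condition.symm

def stepL (T : Over S) (L : Pic (PicF.XT f T)) : Pic (PicF.XT f (stepT f T)) :=
  pull (PicF.XTmap f (step₁ f T)) L *
    pull (PicF.XTmap f (step₂ f T)) ((ptI f hdim (prX f))⁻¹ * ptI f hdim (prY f))

theorem step_exists (T : Over S) (L : Pic (PicF.XT f T)) {B : Over S} (t : B ⟶ T) (a a' : B ⟶ Over.mk f) :
    ∃ t' : B ⟶ stepT f T, pull (PicF.XTmap f t') (stepL f hdim T L) =
      pull (PicF.XTmap f t) L * ((ptI f hdim a)⁻¹ * ptI f hdim a') := by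
  let q : B.left ⟶ pullback f f := pullback.lift a.left a'.left ((Over.w a).trans (Over.w a').symm)
  have hq : q ≫ (C2 f).hom = B.hom := by
    show q ≫ pullback.fst f f ≫ f = B.hom
    rw [pullback.lift_fst_assoc]
    exact Over.w a
  let w : B ⟶ C2 f := Over.homMk q hq
  have ht : pullback.lift t.left q ((Over.w t).trans hq.symm) ≫ (stepT f T).hom = B.hom := by
    show pullback.lift _ _ _ ≫ pullback.fst _ _ ≫ T.hom = B.hom
    rw [pullback.lift_fst_assoc]
    exact Over.w t
  let t' : B ⟶ stepT f T := Over.homMk (pullback.lift t.left q ((Over.w t).trans hq.symm)) ht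
  have e1 : t' ≫ step₁ f T = t := Over.OverMorphism.ext (pullback.lift_fst _ _ _)
  have e2 : t' ≫ step₂ f T = w := Over.OverMorphism.ext (pullback.lift_snd _ _ _)
  have e3 : w ≫ prX f = a := Over.OverMorphism.ext (pullback.lift_fst _ _ _)
  have e4 : w ≫ prY f = a' := Over.OverMorphism.ext (pullback.lift_snd _ _ _)
  refine ⟨t', ?_⟩
  rw [stepL, map_mul, pull_comp, pull_comp, RigDesc26.XTmap_comp, RigDesc26.XTmap_comp, e1, e2, map_mul, map_inv,
    ptI_pull, ptI_pull, e3, e4]

/-- A product of copies of `C2` with the class of differences. -/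
def fam : ℕ → Σ T : Over S, Pic (PicF.XT f T)
  | 0 => ⟨Over.mk (𝟙 S), 1⟩
  | n + 1 => ⟨stepT f (fam n).1, stepL f hdim (fam n).1 (fam n).2⟩

theorem Z_fam : ∀ n, Z f (fam f hdim n).1 (fam f hdim n).2
  | 0 => Z_one f _
  | n + 1 => Z_mul f _ (Z_pull f _ (Z_fam n)) (Z_pull f _ (Z_div f hdim _ _ _))

theorem fam_props : ∀ n, IsProper (fam f hdim n).1.hom ∧ Smooth (fam f hdim n).1.hom ∧
    GeometricallyConnected (fam f hdim n).1.hom
  | 0 => by
    refine ⟨inferInstanceAs (IsProper (𝟙 S)), inferInstanceAs (Smooth (𝟙 S)), ?_⟩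
    show GeometricallyConnected (𝟙 S)
    exact ⟨fun K _ y Z fst snd h => by
      haveI : IsIso snd := h.isIso_snd_of_isIso
      haveI : ConnectedSpace ↥(Spec (CommRingCat.of K)) := inferInstanceAs (ConnectedSpace (PrimeSpectrum K))
      exact (asIso snd).inv.homeomorph.surjective.connectedSpace (asIso snd).inv.continuous⟩
  | n + 1 => by
    obtain ⟨h1, h2, h3⟩ := fam_props n
    haveI : UniversallyOpen (fam f hdim n).1.hom := inferInstance
    haveI : IsProper (C2 f).hom := inferInstanceAs (IsProper (pullback.fst f f ≫ f))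
    haveI : Smooth (C2 f).hom := inferInstanceAs (Smooth (pullback.fst f f ≫ f))
    haveI : GeometricallyConnected (C2 f).hom := by
      haveI : UniversallyOpen f := inferInstance
      haveI : UniversallyOpen (pullback.fst f f) := inferInstance
      exact GeometricallyConnected.comp (pullback.fst f f) f
    haveI : UniversallyOpen (pullback.fst (fam f hdim n).1.hom (C2 f).hom) := inferInstance
    exact ⟨inferInstanceAs (IsProper (pullback.fst (fam f hdim n).1.hom (C2 f).hom ≫ (fam f hdim n).1.hom)),
      inferInstanceAs (Smooth (pullback.fst (fam f hdim n).1.hom (C2 f).hom ≫ (fam f hdim n).1.hom)),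
      GeometricallyConnected.comp (pullback.fst (fam f hdim n).1.hom (C2 f).hom) (fam f hdim n).1.hom⟩

/-- A class is a value of the family. -/
def Real (n : ℕ) (B : Over S) (y : Pic (PicF.XT f B)) : Prop :=
  ∃ t : B ⟶ (fam f hdim n).1, pull (PicF.XTmap f t) (fam f hdim n).2 = y

theorem real_zero (B : Over S) : Real f hdim 0 B 1 :=
  ⟨Over.homMk B.hom (Category.comp_id _), map_one _⟩

theorem Real.succ {n : ℕ} {B : Over S} {y : Pic (PicF.XT f B)} (h : Real f hdim n B y)
    (a a' : B ⟶ Over.mk f) : Real f hdim (n + 1) B (y * ((ptI f hdim a)⁻¹ * ptI f hdim a')) := by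
  obtain ⟨t, rfl⟩ := h
  exact step_exists f hdim (fam f hdim n).1 (fam f hdim n).2 t a a'

end GrothLib.Jac26
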