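import Groth.Agent.Lib.Jac26.Deg
import Groth.Agent.Lib.SmCurveFam.AbelMap
import Groth.Agent.Lib.PicZeroPts26.Points

/-!
# The classes of degree zero form an open and closed piece
-/

set_option autoImplicit false
set_option linter.all false
set_option backward.isDefEq.respectTransparency false
set_option maxHeartbeats 1000000
set_option synthInstance.maxHeartbeats 200000

universe u

open CategoryTheory CategoryTheory.Limits AlgebraicGeometry Opposite TopologicalSpace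
open GrothLib.Cube GrothLib.RigDesc26 GrothLib.PicZeroPts26

noncomputable section

namespace GrothLib.Jac26

variable {C S : Scheme.{u}} (f : C ⟶ S) [IsProper f] [Smooth f] [GeometricallyConnected f]
  (hdim : ∀ s : S, topologicalKrullDim ↥(f.fiber s) = 1)
  {P : Over S} {φ : ∀ T : Over S, PicF.Cl (PicF.XT f T) → (T ⟶ P)}
  (hP : AbDual.IsRelPicK Scheme.fppfPrecoverage f P φ)
  {P₀ : Over S} {φ₀ : ∀ T : Over S, PicF.Cl (PicF.XT f T) → (T ⟶ P₀)}
  (hP₀ : AbDual.IsRelPicZeroK Scheme.fppfPrecoverage f P₀ φ₀)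
  (j : P₀ ⟶ P) (hj : ∀ (T : Over S) (c : PicF.Cl (PicF.XT f T)), AbDual.IsPicZeroCl f T c → φ₀ T c ≫ j = φ T c)

include hj in
theorem pt_comp (T : Over S) {n : Pic (PicF.XT f T)} (hn : Z f T n) : pt f φ₀ T n ≫ j = pt f φ T n := by
  obtain ⟨M, hM, rfl⟩ := exists_module n
  rw [pt_clsMod, pt_clsMod]
  exact hj T _ ((Z_clsMod f T hM).1 hn)

include hP hP₀ in
/-- Classes with the same point of `P` have the same point of `P₀`. -/
theorem pt_eq_of_pt (T : Over S) {m m' : Pic (PicF.XT f T)} (hm : Z f T m) (hm' : Z f T m')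
    (h : pt f φ T m = pt f φ T m') : pt f φ₀ T m = pt f φ₀ T m' := by
  obtain ⟨M, hM, rfl⟩ := exists_module m
  obtain ⟨M', hM', rfl⟩ := exists_module m'
  rw [pt_clsMod, pt_clsMod] at h
  obtain ⟨R, hR, hRu⟩ := hP.locallyInjective T _ _ ⟨M, rfl, hM⟩ ⟨M', rfl, hM'⟩ h
  refine Over.OverMorphism.ext (SmCurveFam.eq_of_fppf hR _ _ fun U u hu => ?_)
  have e : pull (PicF.XTmap f (AbDual.ovrHom T u)) (clsMod hM) =
      pull (PicF.XTmap f (AbDual.ovrHom T u)) (clsMod hM') := by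
    rw [← clsMod_pullback _ hM, ← clsMod_pullback _ hM']
    exact (clsMod_eq_iff _ _).2 (PicSep26.cl_eq_iff.1 (hRu u hu))
  have h' := congrArg (pt f φ₀ _) e
  rw [pt_pull' f hP₀ _ hm, pt_pull' f hP₀ _ hm'] at h'
  exact congrArg CommaMorphism.left h'

include hP in
/-- A point of `P` comes from a class on an fppf covering. -/
theorem exists_cover_class {T : Over S} (p : T ⟶ P) : ∃ (U : Scheme.{u}) (u : U ⟶ T.left),
    Flat u ∧ LocallyOfFinitePresentation u ∧ Surjective u ∧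
      ∃ n : Pic (PicF.XT f (AbDual.ovr T u)), pt f φ _ n = AbDual.ovrHom T u ≫ p := by
  obtain ⟨R, hR, hRu⟩ := hP.locallySurjective T p
  obtain ⟨Y, g, hg, h1, h2, h3⟩ := exists_sigma_of_mem hR
  choose c hc hcp using fun t => hRu (g t) (hg t)
  choose L hLc hL using hc
  obtain ⟨x₀, hx₀⟩ := exists_of_disjoint (fun t => PicF.XTmap f (inc T Y g t)) (cover_inc f T Y g)
    (disjoint_inc f T Y g) (fun t => clsMod (hL t))
  refine ⟨_, Sigma.desc g, h1, h2, h3, x₀, Over.OverMorphism.ext (Sigma.hom_ext _ _ fun t => ?_)⟩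
  have h := congrArg (pt f φ _) (hx₀ t)
  rw [pt_pull f hP, pt_clsMod, hLc, hcp, ← inc_ovrHom T Y g t, Category.assoc] at h
  exact congrArg CommaMorphism.left h

include hdim hP hP₀ hj in
theorem isOpenImmersion_and_isClosedImmersion : IsOpenImmersion j.left ∧ IsClosedImmersion j.left := by
  obtain ⟨d, hd, hdeg⟩ := Groth.Agent.S12409.result f hdim P φ hP
  have hdeg' : ∀ (T : Over S) (n : Pic (PicF.XT f T)) (t : T.left), d ((pt f φ T n).left t) = deg f T n t := by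
    intro T n t
    obtain ⟨M, hM, rfl⟩ := exists_module n
    rw [pt_clsMod, deg_clsMod, ← Groth.Agent.S12409.degAt_eq f hdim T M t]
    exact hdeg T M hM t
  let V : P.left.Opens := ⟨d ⁻¹' {0}, hd _⟩
  have hV : IsClosed (V : Set P.left) := (hd.isClopen_fiber 0).1
  haveI : IsClosedImmersion V.ι := .of_isPreimmersion _ (by rw [Scheme.Opens.range_ι]; exact hV)
  -- `j` lands in `V`
  obtain ⟨R, hR, hRu⟩ := hP₀.locallySurjective P₀ (𝟙 P₀)
  have hjV : Set.range j.left ⊆ Set.range V.ι := by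
    rintro _ ⟨x, rfl⟩
    rw [Scheme.Opens.range_ι]
    obtain ⟨U, u, hu, -, -, y, rfl⟩ := PicSep26.exists_mem_range hR x
    obtain ⟨c, hc, hcp⟩ := hRu u hu
    obtain ⟨L, rfl, hL, -⟩ := id hc
    have hz := (Z_clsMod f _ hL).2 hc
    rw [← pt_clsMod f φ₀ _ hL, Category.comp_id] at hcp
    have h := congrArg (fun q : AbDual.ovr P₀ u ⟶ P => q.left y) (pt_comp f j hj _ hz)
    rw [hcp] at h
    show d _ = 0
    rw [show j.left (u y) = (pt f φ (AbDual.ovr P₀ u) (clsMod hL)).left y from h, hdeg']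
    exact deg_eq_zero_of_Z f hdim _ hz y
  let jV : P₀.left ⟶ V := IsOpenImmersion.lift V.ι j.left hjV
  have hjV' : jV ≫ V.ι = j.left := IsOpenImmersion.lift_fac _ _ _
  -- the inverse
  let Pv : Over S := Over.mk (V.ι ≫ P.hom)
  let ιv : Pv ⟶ P := Over.homMk V.ι rfl
  obtain ⟨W, g, _, _, _, x₀, hx₀⟩ := exists_cover_class f hP ιv
  have hz₀ : Z f _ x₀ := (Z_iff_deg f hdim _ _).2 fun t => by
    rw [← hdeg', hx₀]
    exact (g t).2
  let b : W ⟶ P₀.left := (pt f φ₀ _ x₀).left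
  have hcompat : ∀ {A : Scheme.{u}} (a₁ a₂ : A ⟶ W), a₁ ≫ g = a₂ ≫ g → a₁ ≫ b = a₂ ≫ b := by
    intro A a₁ a₂ h
    let T' : Over S := Over.mk (a₁ ≫ g ≫ Pv.hom)
    let A₁ : T' ⟶ AbDual.ovr Pv g := Over.homMk a₁ rfl
    let A₂ : T' ⟶ AbDual.ovr Pv g := Over.homMk a₂ ((reassoc_of% h) Pv.hom).symm
    have e : pt f φ _ (pull (PicF.XTmap f A₁) x₀) = pt f φ _ (pull (PicF.XTmap f A₂) x₀) := by
      rw [pt_pull f hP, pt_pull f hP, hx₀, ← Category.assoc, ← Category.assoc]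
      congr 1
      exact Over.OverMorphism.ext h
    have := pt_eq_of_pt f hP hP₀ T' (Z_pull f A₁ hz₀) (Z_pull f A₂ hz₀) e
    rw [pt_pull' f hP₀ _ hz₀, pt_pull' f hP₀ _ hz₀] at this
    exact congrArg CommaMorphism.left this
  haveI : EffectiveEpi g := inferInstance
  let k : (V : Scheme.{u}) ⟶ P₀.left := EffectiveEpi.desc g b fun a₁ a₂ h => hcompat a₁ a₂ h
  have hgk : g ≫ k = b := EffectiveEpi.fac _ _ _
  haveI : Epi g := inferInstance
  have hkj : k ≫ j.left = V.ι := by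
    rw [← cancel_epi g, ← Category.assoc, hgk]
    have h := congrArg CommaMorphism.left ((pt_comp f j hj _ hz₀).trans hx₀)
    exact h
  have hjk : jV ≫ k = 𝟙 _ := by
    refine SmCurveFam.eq_of_fppf hR _ _ fun U u hu => ?_
    obtain ⟨c, hc, hcp⟩ := hRu u hu
    obtain ⟨L, rfl, hL, -⟩ := id hc
    have hz := (Z_clsMod f _ hL).2 hc
    rw [← pt_clsMod f φ₀ _ hL, Category.comp_id] at hcp
    let r := pullback.fst (u ≫ jV) g
    let q := pullback.snd (u ≫ jV) g
    let T' : Over S := Over.mk (r ≫ u ≫ P₀.hom)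
    let Rm : T' ⟶ AbDual.ovr P₀ u := Over.homMk r rfl
    have hc0 : r ≫ u ≫ jV = q ≫ g := pullback.condition
    have hq : q ≫ g ≫ Pv.hom = r ≫ u ≫ P₀.hom := by
      show q ≫ g ≫ V.ι ≫ P.hom = _
      rw [← Over.w j, ← hjV', ← reassoc_of% hc0, Category.assoc]
    let Qm : T' ⟶ AbDual.ovr Pv g := Over.homMk q hq
    have e : pt f φ _ (pull (PicF.XTmap f Rm) (clsMod hL)) = pt f φ _ (pull (PicF.XTmap f Qm) x₀) := by
      rw [pt_pull f hP, pt_pull f hP, hx₀, ← pt_comp f j hj _ hz, hcp]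
      refine Over.OverMorphism.ext ?_
      show r ≫ u ≫ j.left = q ≫ g ≫ V.ι
      rw [← hjV', ← reassoc_of% hc0]
    have h' := pt_eq_of_pt f hP hP₀ T' (Z_pull f Rm hz) (Z_pull f Qm hz₀) e
    rw [pt_pull' f hP₀ _ hz, pt_pull' f hP₀ _ hz₀, hcp] at h'
    have h2 : r ≫ u = q ≫ b := congrArg CommaMorphism.left h'
    haveI : Surjective r := MorphismProperty.pullback_fst (P := @Surjective) _ _ ‹_›
    haveI : Flat r := MorphismProperty.pullback_fst (P := @Flat) _ _ ‹_›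
    haveI := Flat.epi_of_flat_of_surjective r
    rw [Category.comp_id, ← cancel_epi r, h2, ← hgk, ← reassoc_of% hc0]
  have hkV : k ≫ jV = 𝟙 _ := by rw [← cancel_mono V.ι, Category.assoc, hjV', hkj, Category.id_comp]
  haveI : IsIso jV := ⟨k, hjk, hkV⟩
  rw [← hjV']
  exact ⟨inferInstance, inferInstance⟩

end GrothLib.Jac26
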