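import Groth.Agent.Lib.Jac26.Decomp
import Groth.Agent.Lib.Jac26.Open
import Groth.Agent.Lib.DescentHom.GeomConnected
import Groth.Agent.Lib.PicZeroPts26.Points

/-!
# The Jacobian is proper with geometrically connected fibres
-/

set_option autoImplicit false
set_option linter.all false
set_option backward.isDefEq.respectTransparency false
set_option maxHeartbeats 1000000
set_option synthInstance.maxHeartbeats 200000

universe u

open CategoryTheory CategoryTheory.Limits AlgebraicGeometry Opposite TopologicalSpace IsLocalRing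
open GrothLib.Cube GrothLib.RigDesc26 GrothLib.PicZeroPts26

noncomputable section

namespace GrothLib.Jac26

variable {C S : Scheme.{u}} (f : C ⟶ S) [IsProper f] [Smooth f] [GeometricallyConnected f]
  (hdim : ∀ s : S, topologicalKrullDim ↥(f.fiber s) = 1)
  {P₀ : Over S} {φ₀ : ∀ T : Over S, PicF.Cl (PicF.XT f T) → (T ⟶ P₀)}
  (hP₀ : AbDual.IsRelPicZeroK Scheme.fppfPrecoverage f P₀ φ₀)

/-- The map from the family. -/
def G (φ₀ : ∀ T : Over S, PicF.Cl (PicF.XT f T) → (T ⟶ P₀)) (N : ℕ) : (fam f hdim N).1 ⟶ P₀ :=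
  pt f φ₀ _ (fam f hdim N).2

/-- The points of the base over which `N` pairs of points suffice. -/
def W (f : C ⟶ S) (N : ℕ) : Set S :=
  {s | 1 - EulerConst10.fibEuler f (Coh.structureModule C) s ≤ N}

theorem isOpen_W (N : ℕ) : IsOpen (W f N) := by
  refine isOpen_iff_forall_mem_open.2 fun s hs => ?_
  haveI : (Coh.structureModule C).IsQuasicoherent :=
    InvExt.isQuasicoherent_of_isInvertible Euler.isInvertible_structure
  obtain ⟨U, hsU, hU⟩ := EulerConst10.exists_nhd_euler_eq f (Coh.structureModule C)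
    (LocFree8.isFP_of_isFinLocFree _ (Euler.isFinLocFree_of_isInvertible Euler.isInvertible_structure))
    (Seesaw26.isFlatOver_of_isInvertible f Euler.isInvertible_structure) s
  refine ⟨U, fun s' hs' => ?_, U.2, hsU⟩
  show 1 - EulerConst10.fibEuler f (Coh.structureModule C) s' ≤ (N : ℤ)
  rw [hU s' hs']
  exact hs

theorem exists_mem_W (s : S) : ∃ N, s ∈ W f N :=
  ⟨(1 - EulerConst10.fibEuler f (Coh.structureModule C) s).toNat, Int.self_le_toNat _⟩

include hdim hP₀ in
/-- Over `W N` the family covers every point. -/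
theorem mem_range_G (N : ℕ) (x : P₀.left) (hx : P₀.hom x ∈ W f N) :
    x ∈ Set.range (G f hdim φ₀ N).left := by
  let Ω := AlgebraicClosure (P₀.left.residueField x)
  let σ : Spec (CommRingCat.of Ω) ⟶ P₀.left :=
    Spec.map (CommRingCat.ofHom (algebraMap (P₀.left.residueField x) Ω)) ≫ P₀.left.fromSpecResidueField x
  have hσ : σ (closedPoint Ω) = x := by
    rw [Scheme.Hom.comp_apply]
    exact Scheme.fromSpecResidueField_apply x _
  let b := σ ≫ P₀.hom
  let σ' : Over.mk b ⟶ P₀ := Over.homMk σ rfl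
  obtain ⟨R, hR, hRu⟩ := hP₀.locallySurjective (Over.mk b) σ'
  have hpl : IsPtLike (Over.mk (𝟙 (Spec (CommRingCat.of Ω)))) := ⟨𝟙 _, fun K _ s => ⟨s, (Category.comp_id s).symm⟩⟩
  obtain ⟨U, u, hu, _, _, _, hlift⟩ := exists_member hpl (R := R) hR
  obtain ⟨s', hs'⟩ := hlift Ω (𝟙 _)
  obtain ⟨c, hc, hcp⟩ := hRu u hu
  obtain ⟨L, rfl, hL, -⟩ := id hc
  have hz := (Z_clsMod f _ hL).2 hc
  rw [← pt_clsMod f φ₀ _ hL] at hcp
  let s'' : Over.mk b ⟶ AbDual.ovr (Over.mk b) u := Over.homMk s' (by
    show s' ≫ u ≫ b = b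
    rw [← Category.assoc, hs']
    exact Category.id_comp b)
  let n := pull (PicF.XTmap f s'') (clsMod hL)
  have hzn : Z f (Over.mk b) n := Z_pull f s'' hz
  have hn : pt f φ₀ _ n = σ' := by
    rw [pt_pull' f hP₀ _ hz, hcp, ← Category.assoc, show s'' ≫ AbDual.ovrHom (Over.mk b) u = 𝟙 _ from
      Over.OverMorphism.ext hs', Category.id_comp]
  have hb : b (closedPoint Ω) = P₀.hom x := by
    show (σ ≫ P₀.hom) (closedPoint Ω) = _
    rw [Scheme.Hom.comp_apply, hσ]
  have hN : 1 - EulerConst10.fibEuler (PicF.XTproj f (Over.mk b))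
      (Coh.structureModule (PicF.XT f (Over.mk b))) (closedPoint Ω) ≤ N := by
    haveI : (Coh.structureModule C).IsQuasicoherent :=
      InvExt.isQuasicoherent_of_isInvertible Euler.isInvertible_structure
    have h0 : EulerConst10.fibEuler (pullback.snd f b) (Coh.structureModule (pullback f b)) (closedPoint Ω) =
        EulerConst10.fibEuler f (Coh.structureModule C) (b (closedPoint Ω)) :=
      (EulerConst10.fibEuler_congr (pullback.snd f b) (OX.pullUnitIso (pullback.fst f b)) _).symm.trans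
        (EulerConst10.fibEuler_baseChange (IsPullback.of_hasPullback f b) (Coh.structureModule C) (closedPoint Ω))
    rw [hb] at h0
    change 1 - EulerConst10.fibEuler (pullback.snd f b) (Coh.structureModule (pullback f b)) (closedPoint Ω) ≤ (N : ℤ)
    rw [h0]
    exact hx
  obtain ⟨t, ht⟩ := real_of_deg_eq_zero f hdim b n (deg_eq_zero_of_Z f hdim _ hzn _) N hN
  refine ⟨t.left (closedPoint Ω), ?_⟩
  have h := pt_pull' f hP₀ t (Z_fam f hdim N)
  rw [ht, hn] at h
  exact ((Scheme.Hom.comp_apply _ _ _).symm.trans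
    (congrArg (fun q : Over.mk b ⟶ P₀ => q.left (closedPoint Ω)) h.symm)).trans hσ

include hdim hP₀ in
theorem isProper [IsSeparated P₀.hom] [LocallyOfFiniteType P₀.hom] : IsProper P₀.hom := by
  let U : ℕ → S.Opens := fun N => ⟨W f N, isOpen_W f N⟩
  refine IsZariskiLocalAtTarget.of_iSup_eq_top (P := @IsProper) U
    (eq_top_iff.2 fun s _ => Opens.mem_iSup.2 (exists_mem_W f s)) fun N => ?_
  obtain ⟨hp, -, -⟩ := fam_props f hdim N
  let g := (G f hdim φ₀ N).left
  haveI : Surjective (g ∣_ (P₀.hom ⁻¹ᵁ U N)) := ⟨fun y => by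
    obtain ⟨a, ha⟩ := mem_range_G f hdim hP₀ N y.1 y.2
    exact ⟨⟨a, show g a ∈ P₀.hom ⁻¹ᵁ U N by rw [ha]; exact y.2⟩,
      Subtype.ext (by rw [morphismRestrict_base]; exact ha)⟩⟩
  have hw : IsProper ((g ≫ P₀.hom) ∣_ U N) := by
    rw [show g ≫ P₀.hom = (fam f hdim N).1.hom from Over.w _]
    infer_instance
  rw [morphismRestrict_comp] at hw
  haveI := hw
  haveI : UniversallyClosed (P₀.hom ∣_ U N) :=
    UniversallyClosed.of_comp_surjective (g ∣_ (P₀.hom ⁻¹ᵁ U N)) _
  haveI : QuasiCompact (P₀.hom ∣_ U N) := inferInstance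
  haveI : LocallyOfFiniteType (P₀.hom ∣_ U N) := inferInstance
  haveI : IsSeparated (P₀.hom ∣_ U N) := inferInstance
  exact {}

include hdim hP₀ in
theorem geometricallyConnected : GeometricallyConnected P₀.hom := by
  refine DescentHom.geometricallyConnected_of_geomPt P₀.hom fun s => ?_
  obtain ⟨N, hN⟩ := exists_mem_W f s
  obtain ⟨hp, hsm, hg⟩ := fam_props f hdim N
  let T := (fam f hdim N).1
  let g := (G f hdim φ₀ N).left
  have hgw : g ≫ P₀.hom = T.hom := Over.w _
  let m : pullback T.hom (Red.geomPt s) ⟶ pullback P₀.hom (Red.geomPt s) :=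
    pullback.map _ _ _ _ g (𝟙 _) (𝟙 _) (by rw [Category.comp_id, hgw]) (by simp)
  have hsq : IsPullback (pullback.fst T.hom (Red.geomPt s)) m g (pullback.fst P₀.hom (Red.geomPt s)) := by
    refine IsPullback.of_bot ?_ (pullback.lift_fst _ _ _).symm (IsPullback.of_hasPullback P₀.hom (Red.geomPt s))
    rw [hgw, show m ≫ pullback.snd P₀.hom (Red.geomPt s) = pullback.snd T.hom (Red.geomPt s) from
      (pullback.lift_snd _ _ _).trans (Category.comp_id _)]
    exact IsPullback.of_hasPullback _ _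
  have hm : Function.Surjective m := fun z => by
    have hz : P₀.hom (pullback.fst P₀.hom (Red.geomPt s) z) = s := by
      rw [← Scheme.Hom.comp_apply, pullback.condition, Scheme.Hom.comp_apply]
      show (_ ≫ S.fromSpecResidueField s) _ = s
      rw [Scheme.Hom.comp_apply]
      exact Scheme.fromSpecResidueField_apply s _
    obtain ⟨a, ha⟩ := mem_range_G f hdim hP₀ N (pullback.fst P₀.hom (Red.geomPt s) z) (by rw [hz]; exact hN)
    obtain ⟨w, -, hw⟩ := Scheme.exists_preimage_of_isPullback hsq a z ha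
    exact ⟨w, hw⟩
  haveI : UniversallyOpen T.hom := inferInstance
  haveI : ConnectedSpace ↥(Spec (CommRingCat.of (AlgebraicClosure (S.residueField s)))) :=
    inferInstanceAs (ConnectedSpace (PrimeSpectrum _))
  haveI : ConnectedSpace ↥(pullback T.hom (Red.geomPt s)) := inferInstance
  exact hm.connectedSpace m.continuous

end GrothLib.Jac26
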